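import Cfsg.Agent.H321.Mono.OrbC

/-!
# S2187, X4: a pair of commuting orbits of type `A₂` exchanged by `τ` (helper82)

* `ins_pair` : `p = 3`: `R = {± a, ± f a, ± f² a}`, `a + f a + f² a = 0`, `γ² a = a`, the root groups of `R` and `γ R` commute:
  the `r`-elements of `⟨X b : b ∈ R ∪ γ R⟩` fixed by `τ` are in `H`.
-/

set_option autoImplicit false
set_option linter.unusedSectionVars false

namespace Cfsg.Agent.H82.Mono

open CoxeterSystem Cfsg Cfsg.Lie Cfsg.Lie.ChevalleyDatum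
open Cfsg.Agent.ChevalleyStructure Cfsg.Agent.ChevalleyStructure.Elts Cfsg.Agent.ChevalleyStructure.CoxeterGeom
  Cfsg.Agent.ChevalleyStructure.CoxeterGeomTypes Cfsg.Agent.ChevalleyStructure.NPerm
open Cfsg.Agent.Tits.Roots Cfsg.Agent.Tits.Core Cfsg.Agent.Nodes Cfsg.Agent.Nodes.Reps Cfsg.Agent.Nodes.BNOf
  Cfsg.Agent.Nodes.SubComb Cfsg.Agent.Nodes.RGDChev Cfsg.Agent.Nodes.Bruhat Cfsg.Agent.Nodes.Coroot
open Cfsg.Agent.KFacts.RgdField Cfsg.Agent.KFacts.RgdChevCoord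
open Cfsg.Agent.BpExc Cfsg.Agent.BpExc.TorCent Cfsg.Agent.BpExc.TorChev Cfsg.Agent.BpExc.Tow
  Cfsg.Agent.BpExc.TowChev Cfsg.Agent.BpExc.Fr Cfsg.Agent.BpExc.LangFr
open Cfsg.Agent.H469.Exc Cfsg.Agent.H316.U6 Cfsg.Agent.H818.Gen Cfsg.Agent.H818.Mono Cfsg.Agent.H696.GmnToral
open Cfsg.Agent.H225.Gen (LL LL_rep LL_root LL_neg)
open Cfsg.Agent.H496.Mono
open Cfsg.Agent.H46.Gen (AFr Rt xf sgn sgn_ne_zero xf_inj exists_hom_afr rt_iff afr_of_three)
open Cfsg.Geo Cfsg.Agent.H321.Ker Cfsg.Agent.H321.Mono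
open scoped MatrixGroups
open Matrix.SpecialLinearGroup (transvection toGL)

/-! ### commuting subgroups exchanged by an automorphism -/

section Abs

variable {Y : Type*} [Group Y] {τ : MulAut Y} {L L' : Subgroup Y}

/-- the elements `x ∈ L` with `x τ(x) ∈ H` -/
def HN (hc : ∀ x ∈ L, ∀ y ∈ L', x * y = y * x) (h1 : ∀ x ∈ L, τ x ∈ L') (H : Subgroup Y) : Subgroup Y where
  carrier := {x | x ∈ L ∧ x * τ x ∈ H}
  one_mem' := ⟨one_mem _, by rw [map_one, one_mul]; exact one_mem _⟩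
  mul_mem' := by
    rintro x y ⟨hx, hx'⟩ ⟨hy, hy'⟩
    refine ⟨mul_mem hx hy, ?_⟩
    have h2 : x * y * τ (x * y) = (x * τ x) * (y * τ y) := by
      rw [map_mul]
      calc x * y * (τ x * τ y) = x * (y * τ x) * τ y := by group
        _ = x * (τ x * y) * τ y := by rw [hc y hy _ (h1 x hx)]
        _ = _ := by group
    rw [h2]
    exact mul_mem hx' hy'
  inv_mem' := by
    rintro x ⟨hx, hx'⟩
    refine ⟨inv_mem hx, ?_⟩
    have h2 : x⁻¹ * τ x⁻¹ = (x * τ x)⁻¹ := by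
      rw [hc x hx _ (h1 x hx), map_inv, mul_inv_rev]
    rw [h2]
    exact inv_mem hx'

theorem mem_HN {hc : ∀ x ∈ L, ∀ y ∈ L', x * y = y * x} {h1 : ∀ x ∈ L, τ x ∈ L'} {H : Subgroup Y} {x : Y} :
    x ∈ HN hc h1 H ↔ x ∈ L ∧ x * τ x ∈ H := Iff.rfl

/-- an `r`-element of `L L'` fixed by `τ` is `x τ(x)` for an `r`-element `x ∈ L` -/
theorem exists_half (hc : ∀ x ∈ L, ∀ y ∈ L', x * y = y * x) (h1 : ∀ x ∈ L, τ x ∈ L') (h2 : ∀ y ∈ L', τ y ∈ L)
    {n r j : ℕ} (hn : ∀ c ∈ L, c ∈ L' → c ^ n = 1) (hnr : n.Coprime r) {x y : Y} (hx : x ∈ L) (hy : y ∈ L')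
    (hu : τ (x * y) = x * y) (hj : (x * y) ^ r ^ j = 1) :
    ∃ x' ∈ L, τ (τ x') = x' ∧ x * y = x' * τ x' ∧ x' ^ r ^ j = 1 := by
  obtain ⟨N, hN1, hN2⟩ := Nat.chineseRemainder (Nat.Coprime.pow_left j hnr.symm) 1 0
  obtain ⟨N', hN'⟩ := (Nat.modEq_zero_iff_dvd).1 hN2
  have hpw : ∀ u : Y, u ^ r ^ j = 1 → u ^ N = u := by
    intro u h3
    have h4 : u ^ N = u ^ 1 := by
      rw [pow_eq_pow_iff_modEq]
      exact hN1.of_dvd (orderOf_dvd_of_pow_eq_one h3)
    rw [h4, pow_one]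
  have hcN : ∀ c ∈ L, c ∈ L' → c ^ N = 1 := by
    intro c h3 h4
    rw [hN', pow_mul, hn c h3 h4, one_pow]
  -- the central element
  obtain ⟨c, hcd⟩ : ∃ c, c = x⁻¹ * τ y := ⟨_, rfl⟩
  have h3 : c = y * (τ x)⁻¹ := by
    rw [map_mul, ← hc _ (h2 y hy) _ (h1 x hx)] at hu
    rw [hcd, eq_mul_inv_iff_mul_eq, mul_assoc, hu]
    group
  have hcL : c ∈ L := by rw [hcd]; exact mul_mem (inv_mem hx) (h2 y hy)
  have hcL' : c ∈ L' := by rw [h3]; exact mul_mem hy (inv_mem (h1 x hx))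
  have hyN : y ^ N = τ (x ^ N) := by
    have h4 : y = c * τ x := by rw [h3]; group
    have h5 : Commute c (τ x) := hc c hcL _ (h1 x hx)
    rw [h4, h5.mul_pow, hcN c hcL hcL', one_mul, map_pow]
  have hxN : τ (y ^ N) = x ^ N := by
    have h4 : τ y = x * c := by rw [hcd]; group
    have h5 : Commute x c := hc x hx c hcL'
    rw [map_pow, h4, h5.mul_pow, hcN c hcL hcL', mul_one]
  have h6 : x * y = x ^ N * τ (x ^ N) := by
    have h7 : Commute x y := hc x hx y hy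
    rw [← hyN, ← h7.mul_pow, hpw _ hj]
  have h7 : Commute (x ^ N) (τ (x ^ N)) := hc _ (pow_mem hx N) _ (h1 _ (pow_mem hx N))
  refine ⟨(x ^ N) ^ N, pow_mem (pow_mem hx N) N, ?_, ?_, ?_⟩
  · rw [map_pow, map_pow, ← hyN, hxN]
  · rw [map_pow, ← h7.mul_pow, ← h6, hpw _ hj]
  · have h8 : (x ^ N) ^ r ^ j * (τ (x ^ N)) ^ r ^ j = 1 := by rw [← h7.mul_pow, ← h6, hj]
    have h9 : (x ^ N) ^ r ^ j ∈ L' := by
      rw [eq_inv_of_mul_eq_one_left h8]
      exact inv_mem (pow_mem (h1 _ (pow_mem hx N)) _)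
    rw [← pow_mul, mul_comm, pow_mul]
    exact hcN _ (pow_mem (pow_mem hx N) _) h9

end Abs

variable {D : ChevalleyDatum} {l : ℕ} {M : CoxeterMatrix (Fin l)} {hp : IsType D l M} {r : ℕ} [Fact r.Prime]
  {e : ℕ} {τ : MulAut ↥(D.group (KK r))} {γ : (Fin l → ℤ) ≃+ (Fin l → ℤ)} {E H : Subgroup ↥(D.group (KK r))}

/-- the square of the situation -/
theorem sit_sq (S : Sit hp r 3 e τ γ E H) : Sit hp r 3 (e + e) (τ * τ) (γ.trans γ) E ⊤ where
  he := by have := S.he; omega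
  frob := S.frob.mul S.frob
  fr := S.fr.mul S.fr
  el := S.el
  fix := fun y hy => by rw [MulAut.mul_apply, S.fix y hy, S.fix y hy]
  nrm := S.nrm
  cent := fun _ _ _ _ _ _ => Subgroup.mem_top _

/-- **A pair of commuting orbits of type `A₂` exchanged by `τ`.** -/
theorem ins_pair (S : Sit hp r 3 e τ γ E H) (hG : D ≠ chevG2) (hr : r ≠ 2) (hpr : 3 ≠ r) {a : Fin l → ℤ}
    (ha : IsRoot M.toCoxeterSystem hp.isCartan a) (hγ : γ (γ a) = a)
    {f : M.Group} (hf : f ∈ VE hp r E)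
    (h3 : a + rep M.toCoxeterSystem hp.isCartan f a + rep M.toCoxeterSystem hp.isCartan (f ^ 2) a = 0)
    (horb : ∀ v ∈ VE hp r E, ∃ j : ℕ,
      rep M.toCoxeterSystem hp.isCartan v a = rep M.toCoxeterSystem hp.isCartan (f ^ j) a)
    {R : Set (Fin l → ℤ)} (hR : R = {a, -a, rep M.toCoxeterSystem hp.isCartan f a,
      -rep M.toCoxeterSystem hp.isCartan f a, rep M.toCoxeterSystem hp.isCartan (f ^ 2) a,
      -rep M.toCoxeterSystem hp.isCartan (f ^ 2) a})
    (hcm : ∀ x ∈ R, ∀ y ∈ R, ∀ u ∈ XX D l (KK r) x, ∀ v ∈ XX D l (KK r) (γ y), u * v = v * u) :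
    InS r l τ H (R ∪ γ '' R) := by
  have := finite_W hp M.toCoxeterSystem
  set cs := M.toCoxeterSystem with hcs
  have S2 := sit_sq S
  have hγ2 : (γ.trans γ) a = (1 : ℤ) • a := by rw [one_smul]; exact hγ
  obtain ⟨hev, -, -, hset⟩ := frame3 S2 hG ha (Or.inl rfl) hγ2 hf h3
  rw [← hcs] at hset
  have hRR := hR.trans hset.symm
  -- the roots
  have hroot : ∀ x ∈ R, IsRoot cs hp.isCartan x := by
    intro x hx
    rw [hR] at hx
    rcases hx with rfl | rfl | rfl | rfl | rfl | rfl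
    · exact ha
    · exact ha.neg
    · exact ha.act f
    · exact (ha.act f).neg
    · exact ha.act (f ^ 2)
    · exact (ha.act (f ^ 2)).neg
  have hγf : ∀ w ∈ VE hp r E, γ (γ (rep cs hp.isCartan w a)) = rep cs hp.isCartan w a := by
    intro w hw
    rw [VE_gam S hw ha, VE_gam S hw ((S.fr.root a).2 ha), hγ]
  have hγγ : ∀ x ∈ R, γ (γ x) = x := by
    intro x hx
    rw [hR] at hx
    rcases hx with rfl | rfl | rfl | rfl | rfl | rfl
    · exact hγ
    · rw [map_neg, map_neg, hγ]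
    · exact hγf f hf
    · rw [map_neg, map_neg, hγf f hf]
    · exact hγf _ (pow_mem hf 2)
    · rw [map_neg, map_neg, hγf _ (pow_mem hf 2)]
  -- the two subgroups
  set L := RGD.Sup (XX D l (KK r)) R with hL
  set L' := RGD.Sup (XX D l (KK r)) (γ '' R) with hL'
  have hrg : ∀ x ∈ γ '' R, IsRoot cs hp.isCartan x := by
    rintro _ ⟨x, hx, rfl⟩
    exact (S.fr.root x).2 (hroot x hx)
  have hm1 : ∀ x ∈ L, τ x ∈ L' := fun x hx =>
    (S.fr.mem_Sup hroot (fun a => γ.injective.mem_set_image) x).2 hx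
  have hm2 : ∀ y ∈ L', τ y ∈ L := by
    intro y hy
    refine (S.fr.mem_Sup hrg (fun a => ?_) y).2 hy
    constructor
    · intro h4
      refine ⟨γ a, h4, ?_⟩
      have h5 := hγγ _ h4
      exact γ.injective h5
    · rintro ⟨x, hx, rfl⟩
      rw [hγγ x hx]
      exact hx
  have hcc : ∀ x ∈ L, ∀ y ∈ L', x * y = y * x := by
    have h4 : L ≤ Subgroup.centralizer (L' : Set ↥(D.group (KK r))) := by
      refine RGD.Sup_le fun x hx u hu => ?_
      rw [Subgroup.mem_centralizer_iff]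
      intro y hy
      have h5 : L' ≤ Subgroup.centralizer {u} := by
        refine RGD.Sup_le ?_
        rintro _ ⟨z, hz, rfl⟩ v hv
        rw [Subgroup.mem_centralizer_singleton_iff]
        exact (hcm x hx z hz u hu v hv).symm
      exact Subgroup.mem_centralizer_singleton_iff.1 (h5 hy)
    intro x hx y hy
    exact ((Subgroup.mem_centralizer_iff.1 (h4 hx)) y hy).symm
  -- the exponent of the intersection
  have hn3 : ∀ c ∈ L, c ∈ L' → c ^ 3 = 1 := by
    intro c hcL hcL'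
    obtain ⟨ψ, hψ, -⟩ := exists_hom_afr (k := KK r) hp hev (le_refl 2) (locFin r)
    have hinj := fm_inj hev hψ
    have hne := exists_ne_one (p := 3) (le_refl 3) hinj
    have hLr : L ≤ ψ.range := by
      rw [hL, hRR]
      exact fm_Sup hev hψ
    have hrL : ψ.range ≤ L := by
      rw [hL, hRR]
      exact fm_range hev hψ (by norm_num)
    obtain ⟨g, rfl⟩ := hLr hcL
    have h4 : toGL g ∈ scalars (Fin 3) (KK r) := by
      refine scalar_of_psi (le_refl 3) hne fun h => ?_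
      have h5 : cj (toGL g) h = g * h * g⁻¹ := by
        apply toGL_inj'
        rw [toGL_cj, map_mul, map_mul, map_inv]
      rw [h5, map_mul, map_mul, map_inv, ← hcc _ (hrL ⟨h, rfl⟩) _ hcL']
      group
    have h6 : g ∈ Subgroup.center (Matrix.SpecialLinearGroup (Fin 3) (KK r)) := by
      rw [Subgroup.mem_center_iff]
      intro h
      obtain ⟨z, hz⟩ := mem_scalars_iff_sc.1 h4
      apply toGL_inj'
      rw [map_mul, map_mul, hz, sc_comm]
    rw [← map_pow, center_pow h6, map_one]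
  -- the decomposition
  have hdec : ∀ u ∈ RGD.Sup (XX D l (KK r)) (R ∪ γ '' R), ∃ x ∈ L, ∃ y ∈ L', u = x * y := by
    intro u hu
    let P : Subgroup ↥(D.group (KK r)) :=
      { carrier := {u | ∃ x ∈ L, ∃ y ∈ L', u = x * y}
        one_mem' := ⟨1, one_mem _, 1, one_mem _, by rw [one_mul]⟩
        mul_mem' := by
          rintro _ _ ⟨x, hx, y, hy, rfl⟩ ⟨x', hx', y', hy', rfl⟩
          refine ⟨x * x', mul_mem hx hx', y * y', mul_mem hy hy', ?_⟩
          calc x * y * (x' * y') = x * (y * x') * y' := by group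
            _ = x * (x' * y) * y' := by rw [hcc x' hx' y hy]
            _ = _ := by group
        inv_mem' := by
          rintro _ ⟨x, hx, y, hy, rfl⟩
          exact ⟨x⁻¹, inv_mem hx, y⁻¹, inv_mem hy, by rw [hcc x hx y hy, mul_inv_rev]⟩ }
    have h4 : RGD.Sup (XX D l (KK r)) (R ∪ γ '' R) ≤ P := by
      refine RGD.Sup_le ?_
      rintro x (hx | hx) u hu
      · exact ⟨u, RGD.le_Sup hx hu, 1, one_mem _, by rw [mul_one]⟩
      · exact ⟨1, one_mem _, u, RGD.le_Sup hx hu, by rw [one_mul]⟩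
    exact h4 hu
  have hcop : Nat.Coprime 3 r := (Nat.coprime_primes Nat.prime_three Fact.out).2 hpr
  rintro u hu hτu ⟨j, hj⟩
  obtain ⟨x, hx, y, hy, rfl⟩ := hdec u hu
  obtain ⟨x', hx', hx2, hxy, hxj⟩ := exists_half hcc hm1 hm2 hn3 hcop hx hy hτu hj
  rw [hxy]
  have h5 : x' ∈ HN hcc hm1 H := by
    refine core S2 hG hr hpr ha (Or.inl rfl) hγ2 hf h3 horb hR (N := HN hcc hm1 H) ?_ hx' hx2 ⟨j, hxj⟩
    intro F hF hFi v hv hv2 hvF hvc
    refine ⟨hv, S.cent F hF hFi _ ?_ fun t ht => ?_⟩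
    · -- in `Orr`
      have h6 : Subgroup.closure {v | v ∈ RGD.Sup (XX D l (KK r)) R ∧ (τ * τ) v = v ∧ ∃ j : ℕ, v ^ r ^ j = 1} ≤
          HN hcc hm1 (Orr r τ) := by
        refine (Subgroup.closure_le _).2 ?_
        rintro v ⟨hv, hv2, i, hi⟩
        refine ⟨hv, Subgroup.subset_closure ⟨?_, i, ?_⟩⟩
        · rw [map_mul]
          have h7 : τ (τ v) = v := hv2
          rw [h7]
          exact (hcc v hv _ (hm1 v hv)).symm
        · have h7 : Commute v (τ v) := hcc v hv _ (hm1 v hv)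
          rw [h7.mul_pow, ← map_pow, hi, map_one, one_mul]
      exact (h6 hvc).2
    · have h6 : t * τ v = τ v * t := by
        have h7 := congrArg τ (hvF t ht)
        rwa [map_mul, map_mul, S.fix t (hF ht)] at h7
      calc t * (v * τ v) = (t * v) * τ v := by group
        _ = v * (t * τ v) := by rw [hvF t ht]; group
        _ = _ := by rw [h6]; group
  exact h5.2

end Cfsg.Agent.H82.Mono
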