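import Cfsg.Agent.H82.Mono.E6Link
import Cfsg.Agent.H82.Mono.PairOrb

/-!
# S2187, X4, `p = 3`, piece M8c: `E₆`, `γ = ± ρ` with the sign of the other type (helper82)

* `p8c : P8c m`.
-/

set_option autoImplicit false
set_option linter.unusedSectionVars false

namespace Cfsg.Agent.H82.Mono

open CoxeterSystem Cfsg Cfsg.Lie Cfsg.Lie.ChevalleyDatum
open Cfsg.Agent.ChevalleyStructure Cfsg.Agent.ChevalleyStructure.Elts Cfsg.Agent.ChevalleyStructure.CoxeterGeom
  Cfsg.Agent.ChevalleyStructure.CoxeterGeomTypes Cfsg.Agent.ChevalleyStructure.NPerm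
open Cfsg.Agent.Tits.Roots Cfsg.Agent.Tits.Core Cfsg.Agent.Nodes Cfsg.Agent.Nodes.Reps Cfsg.Agent.Nodes.BNOf
  Cfsg.Agent.Nodes.SubComb Cfsg.Agent.Nodes.RGDChev Cfsg.Agent.Nodes.Bruhat Cfsg.Agent.Nodes.Coroot
open Cfsg.Agent.KFacts.RgdField Cfsg.Agent.KFacts.RgdChevCoord
open Cfsg.Agent.BpExc Cfsg.Agent.BpExc.TorCent Cfsg.Agent.BpExc.TorChev Cfsg.Agent.BpExc.Tow
  Cfsg.Agent.BpExc.TowChev Cfsg.Agent.BpExc.Fr Cfsg.Agent.BpExc.LangFr
open Cfsg.Agent.H469.Exc Cfsg.Agent.H316.U6 Cfsg.Agent.H818.Gen Cfsg.Agent.H818.Mono Cfsg.Agent.H696.GmnToral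
open Cfsg.Agent.H225.Gen Cfsg.Agent.H225.Mono Cfsg.Agent.H496.Mono
open Cfsg.Agent.H720.TwFr
open Cfsg.Agent.H46.Gen (Rt rt_iff xc_commute)
open Cfsg.Agent.H508.Dens (mem_XX_iff)

universe v

theorem ins_mono {D : ChevalleyDatum} {l r : ℕ} [Fact r.Prime] {τ : MulAut ↥(D.group (KK r))}
    {H : Subgroup ↥(D.group (KK r))} {S S' : Set (Fin l → ℤ)} (h : InS r l τ H S') (hS : S ⊆ S') : InS r l τ H S :=
  fun u hu => h u (RGD.Sup_mono hS hu)

variable {M : CoxeterMatrix (Fin 6)} {hp : IsType chevE6 6 M} {r : ℕ} [Fact r.Prime]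

/-- orthogonal root groups commute -/
theorem commute_of_B {x y : Fin 6 → ℤ} (hx : IsRoot M.toCoxeterSystem hp.isCartan x)
    (hy : IsRoot M.toCoxeterSystem hp.isCartan y) (h : B x y = 0) {u v : ↥(chevE6.group (KK r))}
    (hu : u ∈ XX chevE6 6 (KK r) x) (hv : v ∈ XX chevE6 6 (KK r) y) : u * v = v * u := by
  obtain ⟨c, rfl⟩ := (mem_XX_iff hp M.toCoxeterSystem hx).1 hu
  obtain ⟨d, rfl⟩ := (mem_XX_iff hp M.toCoxeterSystem hy).1 hv
  have hxn := ((root_iff hp).1 hx).norm
  have hyn := ((root_iff hp).1 hy).norm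
  refine (xc_commute hp ((rt_iff hp M.toCoxeterSystem).2 hx) ((rt_iff hp M.toCoxeterSystem).2 hy) ?_ (Or.inr ?_) c d).eq
  · rintro rfl
    rw [B_neg', hxn] at h
    norm_num at h
  · intro m n hm hn hrt
    have h1 := ((root_iff hp).1 ((rt_iff hp M.toCoxeterSystem).1 hrt)).norm
    have h2 : B ((m : ℤ) • x + (n : ℤ) • y) ((m : ℤ) • x + (n : ℤ) • y) = 2 * (m : ℤ) ^ 2 + 2 * (n : ℤ) ^ 2 := by
      rw [B_add, B_add', B_add', B_smul, B_smul', B_smul, B_smul', B_smul, B_smul', B_smul, B_smul', hxn, hyn, h,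
        B_comm y x, h]
      ring
    rw [h1] at h2
    have hm' : (1 : ℤ) ≤ m := by exact_mod_cast hm
    have hn' : (1 : ℤ) ≤ n := by exact_mod_cast hn
    nlinarith

variable {q : ℕ} {K₀ : Type v} [Group K₀]

/-- **M8c.** -/
theorem p8c (m : MData hp r q K₀) [IsSimpleGroup K₀] : P8c m := by
  intro E hE hEσ hr2 h3r hq z γ ε hε hγ' F hNP hfT hS
  have := finite_W hp M.toCoxeterSystem
  have hγ : ∀ x, γ x = ε • dl x := fun x => by rw [hγ', dl_eq]
  have S := F.sit hE hEσ
  have hG2 : chevE6 ≠ chevG2 := by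
    intro h
    have h1 := congrArg ChevalleyDatum.nroots h
    exact absurd h1 (by decide +kernel)
  have hε2 : ∀ x : Fin 6 → ℤ, ε • (ε • x) = x := by
    intro x
    rcases hε.1 with rfl | rfl
    · rw [one_smul, one_smul]
    · rw [neg_one_smul, neg_one_smul, neg_neg]
  have hγγ : ∀ x, γ (γ x) = x := fun x => by rw [hγ, hγ, dl_smul, dl_dl, hε2]
  -- a nontrivial element
  obtain ⟨f, hf, hfT⟩ := hfT
  obtain ⟨w, hw⟩ := F.nrm f hf
  have hwV : w ∈ VE hp r (E.map (MulAut.conj z⁻¹).toMonoidHom) := by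
    refine ⟨z⁻¹ * f * z, ⟨f, hf, ?_⟩, hw⟩
    show z⁻¹ * f * z⁻¹⁻¹ = z⁻¹ * f * z
    rw [inv_inv]
  have hrot := fun {v : M.Group} (hv : v ∈ VE hp r (E.map (MulAut.conj z⁻¹).toMonoidHom)) =>
    rot_of_VE S hε.1 hγ' hNP hv
  have hR := hrot hwV
  have hmv : ∃ x, R6 x ∧ rep M.toCoxeterSystem hp.isCartan w x ≠ x := by
    by_contra hcon
    push Not at hcon
    have h1 : w = 1 := rep_faithful hp M.toCoxeterSystem fun a ha => by
      rw [hcon a ((root_iff hp).1 ha), map_one, Module.End.one_apply]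
    subst h1
    exact hfT (nr_mem_T hw)
  obtain ⟨a, ha, hda, hBa⟩ := hR.exists_three hmv
  have hs := hR.sum_zero ha.norm hBa
  obtain ⟨o1, o2, o3, o4⟩ := hR.orth ha hda hBa
  have o0 := ha.dl_orth hda
  have hra : IsRoot M.toCoxeterSystem hp.isCartan a := (root_iff hp).2 ha
  have hw2 : ∀ x, rep M.toCoxeterSystem hp.isCartan (w ^ 2) x =
      rep M.toCoxeterSystem hp.isCartan w (rep M.toCoxeterSystem hp.isCartan w x) := fun x => by
    rw [pow_two, rep_mul_apply]
  -- the orbit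
  have horb : ∀ v ∈ VE hp r (E.map (MulAut.conj z⁻¹).toMonoidHom), ∃ j : ℕ,
      rep M.toCoxeterSystem hp.isCartan v a = rep M.toCoxeterSystem hp.isCartan (w ^ j) a := by
    intro v hv
    have hvw := hrot (mul_mem hv hwV)
    have hvw2 := hrot (mul_mem hv (pow_mem hwV 2))
    simp only [rep_mul_apply, hw2] at hvw hvw2
    have hcomm : ∀ x, rep M.toCoxeterSystem hp.isCartan v (rep M.toCoxeterSystem hp.isCartan w x) =
        rep M.toCoxeterSystem hp.isCartan w (rep M.toCoxeterSystem hp.isCartan v x) := fun x => by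
      rw [← rep_mul_apply, ← rep_mul_apply, VE_comm S hv hwV]
    rcases hR.eq_pow ha hda hBa (hrot hv) hcomm hvw hvw2 with h1 | h1 | h1
    · exact ⟨0, by rw [h1 a ha, pow_zero, map_one, Module.End.one_apply]⟩
    · exact ⟨1, by rw [h1 a ha, pow_one]⟩
    · exact ⟨2, by rw [h1 a ha, hw2]⟩
  -- the three roots
  obtain ⟨b, hb⟩ : ∃ b, b = rep M.toCoxeterSystem hp.isCartan w a := ⟨_, rfl⟩
  obtain ⟨c, hc⟩ : ∃ c, c = rep M.toCoxeterSystem hp.isCartan (w ^ 2) a := ⟨_, rfl⟩
  have hcb : rep M.toCoxeterSystem hp.isCartan w b = c := by rw [hb, hc, hw2]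
  rw [← hb, hcb] at hs o4 o2
  rw [← hb] at o1 o3 hBa
  have hra' : ∀ x, (x = a ∨ x = b ∨ x = c) → IsRoot M.toCoxeterSystem hp.isCartan x := by
    rintro x (rfl | rfl | rfl)
    · exact hra
    · rw [hb]; exact hra.act w
    · rw [hc]; exact hra.act (w ^ 2)
  have hO : ∀ x y, (x = a ∨ x = b ∨ x = c) → (y = a ∨ y = b ∨ y = c) → B x (dl y) = 0 := by
    have hsh : ∀ x y, B (rep M.toCoxeterSystem hp.isCartan w x) (dl (rep M.toCoxeterSystem hp.isCartan w y)) =
        B x (dl y) := fun x y => by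
      have h1 : dl (rep M.toCoxeterSystem hp.isCartan w y) = rep M.toCoxeterSystem hp.isCartan w (dl y) :=
        (hR.com y).symm
      rw [h1]
      exact hR.iso _ _
    have hbb : B b (dl b) = 0 := by rw [hb, hsh, o0]
    have hbc : B b (dl c) = 0 := by
      have h1 := hsh a b
      rw [← hb, hcb] at h1
      rw [h1, o3]
    have hcb' : B c (dl b) = 0 := by
      have h1 := hsh b a
      rw [← hb, hcb] at h1
      rw [h1, o1]
    have hcc : B c (dl c) = 0 := by
      have h1 := hsh b b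
      rw [hcb] at h1
      rw [h1, hbb]
    rintro x y (rfl | rfl | rfl) (rfl | rfl | rfl)
    · exact o0
    · exact o3
    · exact o4
    · exact o1
    · exact hbb
    · exact hbc
    · exact o2
    · exact hcb'
    · exact hcc
  obtain ⟨R, hRd⟩ : ∃ R : Set (Fin 6 → ℤ), R = {a, -a, b, -b, c, -c} := ⟨_, rfl⟩
  have hRm : ∀ x, (x = a ∨ x = b ∨ x = c) → x ∈ R ∧ -x ∈ R := by
    rintro x (rfl | rfl | rfl) <;> rw [hRd] <;> constructor <;> simp
  have hRx : ∀ x ∈ R, ∃ x', (x' = a ∨ x' = b ∨ x' = c) ∧ (x = x' ∨ x = -x') := by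
    intro x hx
    rw [hRd] at hx
    rcases hx with rfl | rfl | rfl | rfl | rfl | rfl
    · exact ⟨_, Or.inl rfl, Or.inl rfl⟩
    · exact ⟨_, Or.inl rfl, Or.inr rfl⟩
    · exact ⟨_, Or.inr (Or.inl rfl), Or.inl rfl⟩
    · exact ⟨_, Or.inr (Or.inl rfl), Or.inr rfl⟩
    · exact ⟨_, Or.inr (Or.inr rfl), Or.inl rfl⟩
    · exact ⟨_, Or.inr (Or.inr rfl), Or.inr rfl⟩
  have hRr : ∀ x ∈ R, IsRoot M.toCoxeterSystem hp.isCartan x := by
    intro x hx
    obtain ⟨x', hx', rfl | rfl⟩ := hRx x hx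
    · exact hra' _ hx'
    · exact (hra' _ hx').neg
  have hP : InS r 6 (MulAut.conj (z⁻¹ * m.σ z) * m.σ) (HZ m 3 E z) (R ∪ γ '' R) := by
    refine ins_pair S hG2 hr2 h3r hra (hγγ a) hwV (by rw [← hb, ← hc]; exact hs) horb (by rw [← hb, ← hc]; exact hRd)
      fun x hx y hy u hu v hv => ?_
    refine commute_of_B (hp := hp) (hRr x hx) ((S.fr.root y).2 (hRr y hy)) ?_ hu hv
    obtain ⟨x', hx', hxx⟩ := hRx x hx
    obtain ⟨y', hy', hyy⟩ := hRx y hy
    have h0 := hO x' y' hx' hy'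
    rw [hγ, B_smul']
    rcases hxx with rfl | rfl <;> rcases hyy with rfl | rfl <;> simp only [dl_neg, B_neg, B_neg', h0, mul_zero, neg_zero]
  -- the roots `x`, `dl x`
  have hx4 : ∀ x, (x = a ∨ x = b ∨ x = c) → InS r 6 (MulAut.conj (z⁻¹ * m.σ z) * m.σ) (HZ m 3 E z)
      {x, -x, dl x, -dl x} := by
    intro x hx
    obtain ⟨h1, h2⟩ := hRm x hx
    refine ins_mono hP ?_
    have h3 : dl x ∈ γ '' R ∧ -dl x ∈ γ '' R := by
      rcases hε.1 with rfl | rfl
      · exact ⟨⟨x, h1, by rw [hγ, one_smul]⟩, ⟨-x, h2, by rw [hγ, one_smul, dl_neg]⟩⟩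
      · exact ⟨⟨-x, h2, by rw [hγ, neg_one_smul, dl_neg, neg_neg]⟩, ⟨x, h1, by rw [hγ, neg_one_smul]⟩⟩
    rintro y (rfl | rfl | rfl | rfl)
    · exact Or.inl h1
    · exact Or.inl h2
    · exact Or.inr h3.1
    · exact Or.inr h3.2
  refine end_dl m (by omega) h3r F hε hγ' fun y hy => ?_
  by_cases hdy : dl y = y
  · refine ins_mono (hS y ⟨mem_LL6 hp ((root_iff hp).2 hy), by rw [hγ, hdy]⟩) ?_
    rw [hdy]
    rintro x (rfl | rfl | rfl | rfl)
    · exact Or.inl rfl
    · exact Or.inr rfl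
    · exact Or.inl rfl
    · exact Or.inr rfl
  · obtain ⟨x, hx, y', hy', hcase⟩ := hR.reach ha hda (by rw [← hb]; exact hBa) hy hdy
    have hx' : x = a ∨ x = b ∨ x = c := by
      rw [hb, hc, hw2]
      exact hx
    have hxr := hra' x hx'
    have hy4 : InS r 6 (MulAut.conj (z⁻¹ * m.σ z) * m.σ) (HZ m 3 E z) {y', -y', dl y', -dl y'} := by
      rcases hcase with rfl | rfl | ⟨h1, h2⟩
      · exact hx4 _ hx'
      · refine ins_mono (hx4 _ hx') ?_
        rw [neg_neg, dl_neg, dl_dl, neg_neg]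
        rintro v (rfl | rfl | rfl | rfl)
        · exact Or.inr (Or.inr (Or.inr rfl))
        · exact Or.inr (Or.inr (Or.inl rfl))
        · exact Or.inr (Or.inl rfl)
        · exact Or.inl rfl
      · -- a reflection
        have hyr : IsRoot M.toCoxeterSystem hp.isCartan y' := by
          rcases hy' with rfl | rfl
          · exact (root_iff hp).2 hy
          · exact ((root_iff hp).2 hy).neg
        have hcr : IsRoot M.toCoxeterSystem hp.isCartan (x - y') := by
          have h3 := isRoot_refl M.toCoxeterSystem hp.isCartan hxr hyr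
          rwa [cpr_B hp _ hyr, B_comm, h2, one_smul] at h3
        have hcn := ((root_iff hp).1 hcr).norm
        have hxn := ((root_iff hp).1 hxr).norm
        have hyn := ((root_iff hp).1 hyr).norm
        have hInc := hS (x - y') ⟨mem_LL6 hp hcr, by rw [hγ, h1]⟩
        have hBx : B x (x - y') = 1 := by rw [B_sub', hxn, B_comm, h2]; norm_num
        have hsx : x - B x (x - y') • (x - y') = y' := by rw [hBx, one_smul]; abel
        have hBdx : B (dl x) (x - y') = 1 := by rw [← h1, B_dl, hBx]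
        have hsdx : dl x - B (dl x) (x - y') • (x - y') = dl y' := by
          rw [hBdx, one_smul]
          rw [← h1, dl_sub]; abel
        have hinv : ∀ v, (v - B v (x - y') • (x - y')) -
            B (v - B v (x - y') • (x - y')) (x - y') • (x - y') = v := by
          intro v
          rw [B_sub, B_smul, hcn]
          module
        have hneg : ∀ v, (-v) - B (-v) (x - y') • (x - y') = -(v - B v (x - y') • (x - y')) := by
          intro v
          rw [B_neg]; module
        have hinj : ∀ v v', v - B v (x - y') • (x - y') = v' - B v' (x - y') • (x - y') → v = v' := by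
          intro v v' h3
          rw [← hinv v, h3, hinv v']
        refine Refl.ins_refl S hr2 hcr hε.1 (by rw [hγ, h1]) hInc (A := {x, -x, dl x, -dl x}) ?_ ?_ (hx4 x hx')
        · have hdr : IsRoot M.toCoxeterSystem hp.isCartan (dl x) := (root_iff hp).2 ((root_iff hp).1 hxr).dl
          rintro v (rfl | rfl | rfl | rfl)
          · exact hxr
          · exact hxr.neg
          · exact hdr
          · exact hdr.neg
        · intro v
          rw [cpr_B hp _ hcr]
          simp only [Set.mem_insert_iff, Set.mem_singleton_iff]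
          constructor
          · rintro (h3 | h3 | h3 | h3)
            · exact Or.inl (hinj _ _ (h3.trans hsx.symm))
            · exact Or.inr (Or.inl (hinj _ _ (by rw [h3, hneg, hsx])))
            · exact Or.inr (Or.inr (Or.inl (hinj _ _ (h3.trans hsdx.symm))))
            · exact Or.inr (Or.inr (Or.inr (hinj _ _ (by rw [h3, hneg, hsdx]))))
          · rintro (rfl | rfl | rfl | rfl)
            · exact Or.inl hsx
            · exact Or.inr (Or.inl (by rw [hneg, hsx]))
            · exact Or.inr (Or.inr (Or.inl hsdx))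
            · exact Or.inr (Or.inr (Or.inr (by rw [hneg, hsdx])))
    refine ins_mono hy4 ?_
    rcases hy' with rfl | rfl
    · exact subset_rfl
    · rw [neg_neg, dl_neg, neg_neg]
      rintro v (rfl | rfl | rfl | rfl)
      · exact Or.inr (Or.inl rfl)
      · exact Or.inl rfl
      · exact Or.inr (Or.inr (Or.inr rfl))
      · exact Or.inr (Or.inr (Or.inl rfl))

end Cfsg.Agent.H82.Mono
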